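import Mathlib
import Groth.Agent.Lib.Helper9.UnipExt.Corad
import Groth.Agent.Lib.Helper9.UnipExt.Ext
import Groth.Agent.Lib.Helper9.HopfAntipode

/-!
# The coconnected part of a commutative Hopf algebra (helper9)

`cocon k A` is the set of elements killed by all long products of functionals vanishing at `1`.
It is the largest unipotent sub-Hopf-algebra (coordinate ring of the largest unipotent quotient).
-/

set_option autoImplicit false
set_option linter.style.haveILetI false

universe u v w

open TensorProduct WithConv

namespace Groth.Agent.H9.CommGrp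

open Groth.Agent.H9 Groth.Agent.H9.UnipFil Groth.Agent.H9.UnipExt Groth.Agent.H9.Comod
  Groth.Agent.H9.FF

section Mul

variable {k : Type u} [Field k] {A : Type v} [CommRing A] [Bialgebra k A]

lemma kills_succ_iff {n : ℕ} {x : A} :
    Kills k (n + 1) x ↔ ∀ θ : WithConv (A →ₗ[k] k), θ.ofConv 1 = 0 →
      Kills k n (sliceL θ.ofConv (CoalgebraStruct.comul (R := k) x)) := by
  constructor
  · intro hx θ hθ m hm l hlen hl
    rw [← mul_apply_eq_apply_sliceL, ← List.prod_cons]
    apply hx (m + 1) (by omega) (θ :: l) (by rw [List.length_cons, hlen])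
    intro θ' hθ'
    rcases List.mem_cons.mp hθ' with h | h
    · rw [h]; exact hθ
    · exact hl θ' h
  · intro h m hm l hlen hl
    rcases l with _ | ⟨θ, l'⟩
    · simp at hlen; omega
    rw [List.prod_cons, mul_apply_eq_apply_sliceL]
    apply h θ (hl θ List.mem_cons_self) (m - 1) (by omega) l'
      (by rw [List.length_cons] at hlen; omega)
    intro θ' hθ'
    exact hl θ' (List.mem_cons_of_mem _ hθ')

omit [Bialgebra k A] in
/-- induction principle for sums of tensor products of subspaces -/
lemma iSup_mapIncl_induction [Module k A] (C : ℕ → Submodule k A) (i : ℕ) {P : A ⊗[k] A → Prop}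
    (h0 : P 0) (hadd : ∀ x y, P x → P y → P (x + y))
    (hpure : ∀ s, s ≤ i → ∀ x ∈ C s, ∀ y ∈ C (i - s), P (x ⊗ₜ[k] y)) :
    ∀ t ∈ ⨆ s ∈ Finset.range (i + 1),
      LinearMap.range (TensorProduct.mapIncl (C s) (C (i - s))), P t := by
  intro t ht
  induction ht using Submodule.iSup_induction' with
  | mem s x hx =>
    induction hx using Submodule.iSup_induction' with
    | mem hs x hx =>
      rw [Finset.mem_range] at hs
      obtain ⟨z, rfl⟩ := hx
      induction z using TensorProduct.induction_on with
      | zero => rw [map_zero]; exact h0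
      | tmul a b => exact hpure s (by omega) a a.2 b b.2
      | add z w hz hw => rw [map_add]; exact hadd _ _ hz hw
    | zero => exact h0
    | add x y _ _ hx hy => exact hadd _ _ hx hy
  | zero => exact h0
  | add x y _ _ hx hy => exact hadd _ _ hx hy

/-- **the coradical filtration is an algebra filtration** -/
theorem mul_mem_killsSub : ∀ (N i j : ℕ), i + j = N → ∀ a ∈ killsSub k A (i + 1),
    ∀ b ∈ killsSub k A (j + 1), a * b ∈ killsSub k A (i + j + 1) := by
  intro N
  induction N using Nat.strong_induction_on with
  | _ N ih =>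
    intro i j hij a ha b hb
    rw [mem_killsSub, kills_succ_iff]
    intro θ hθ m hm l hlen hl
    rw [← mul'_map_eq_apply_sliceL, Bialgebra.comul_mul]
    -- `Λ = l.prod` kills the elements killed by products of length `≥ i + j`
    have hΛ : ∀ c : A, Kills k (i + j) c → l.prod.ofConv c = 0 :=
      fun c hc => hc m hm l hlen hl
    have hΔa := comul_killsSub_le (k := k) (A := A) i ⟨a, ha, rfl⟩
    have hΔb := comul_killsSub_le (k := k) (A := A) j ⟨b, hb, rfl⟩
    revert hΔa
    generalize CoalgebraStruct.comul (R := k) a = t
    intro ht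
    refine iSup_mapIncl_induction (fun s => killsSub k A (s + 1)) i
      (P := fun t => LinearMap.mul' k k (TensorProduct.map θ.ofConv l.prod.ofConv
        (t * CoalgebraStruct.comul (R := k) b)) = 0) ?_ ?_ ?_ t ht
    · rw [zero_mul, map_zero, map_zero]
    · intro x y hx hy
      rw [add_mul, map_add, map_add, hx, hy, add_zero]
    · intro s hs x hx y hy
      revert hΔb
      generalize CoalgebraStruct.comul (R := k) b = t'
      intro ht'
      refine iSup_mapIncl_induction (fun s => killsSub k A (s + 1)) j
        (P := fun t' => LinearMap.mul' k k (TensorProduct.map θ.ofConv l.prod.ofConv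
          (x ⊗ₜ[k] y * t')) = 0) ?_ ?_ ?_ t' ht'
      · rw [mul_zero, map_zero, map_zero]
      · intro u v hu hv
        rw [mul_add, map_add, map_add, hu, hv, add_zero]
      · intro s' hs' x' hx' y' hy'
        rw [Algebra.TensorProduct.tmul_mul_tmul, TensorProduct.map_tmul, LinearMap.mul'_apply]
        by_cases hss : s + s' = 0
        · have h1 : s = 0 := by omega
          have h2 : s' = 0 := by omega
          subst h1 h2
          rw [zero_add, killsSub_one] at hx hx'
          obtain ⟨c, rfl⟩ := Submodule.mem_span_singleton.mp hx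
          obtain ⟨c', rfl⟩ := Submodule.mem_span_singleton.mp hx'
          rw [smul_mul_smul_comm, mul_one, map_smul, hθ, smul_zero, zero_mul]
        · have h1 : y * y' ∈ killsSub k A ((i - s) + (j - s') + 1) :=
            ih ((i - s) + (j - s')) (by omega) (i - s) (j - s') rfl y hy y' hy'
          have h2 : Kills k (i + j) (y * y') :=
            killsSub_mono (by omega : (i - s) + (j - s') + 1 ≤ i + j) h1
          rw [hΛ _ h2, mul_zero]

end Mul

section Cocon

variable (k : Type u) [Field k] (A : Type v) [CommRing A] [Bialgebra k A]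

/-- the coconnected part: elements killed by long products of functionals vanishing at `1` -/
def cocon : Subalgebra k A where
  carrier := {a | ∃ n, Kills k n a}
  mul_mem' := by
    rintro a b ⟨n, hn⟩ ⟨m, hm⟩
    have ha : a ∈ killsSub k A (n + 1) := hn.mono (Nat.le_succ n)
    have hb : b ∈ killsSub k A (m + 1) := hm.mono (Nat.le_succ m)
    exact ⟨n + m + 1, mul_mem_killsSub (n + m) n m rfl a ha b hb⟩
  add_mem' := by
    rintro a b ⟨n, hn⟩ ⟨m, hm⟩
    refine ⟨max n m, ?_⟩
    have ha : a ∈ killsSub k A (max n m) := hn.mono (le_max_left _ _)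
    have hb : b ∈ killsSub k A (max n m) := hm.mono (le_max_right _ _)
    exact (killsSub k A (max n m)).add_mem ha hb
  algebraMap_mem' := by
    intro c
    refine ⟨1, ?_⟩
    rw [Algebra.algebraMap_eq_smul_one]
    exact (killsSub k A 1).smul_mem c one_mem_killsSub_one

variable {k A}

lemma mem_cocon {a : A} : a ∈ cocon k A ↔ ∃ n, Kills k n a := Iff.rfl

lemma killsSub_le_cocon (n : ℕ) : killsSub k A n ≤ Subalgebra.toSubmodule (cocon k A) :=
  fun _ ha => ⟨n, ha⟩

end Cocon

section Hopf

variable {k : Type u} [Field k] {A : Type v} [CommRing A] [HopfAlgebra k A]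

/-- products of functionals composed with the antipode -/
lemma prod_comp_antipode (l : List (WithConv (A →ₗ[k] k))) :
    l.prod.ofConv ∘ₗ HopfAlgebra.antipode k (A := A) =
      ((l.map (fun θ => toConv (θ.ofConv ∘ₗ HopfAlgebra.antipode k (A := A)))).reverse).prod.ofConv := by
  induction l with
  | nil =>
    simp only [List.map_nil, List.reverse_nil, List.prod_nil]
    apply LinearMap.ext
    intro a
    show algebraMap k k (CoalgebraStruct.counit (R := k) (HopfAlgebra.antipode k a)) =
      algebraMap k k (CoalgebraStruct.counit (R := k) a)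
    rw [HopfAlgebra.counit_antipode]
  | cons θ l ih =>
    rw [List.map_cons, List.reverse_cons, List.prod_append, List.prod_singleton, List.prod_cons]
    apply LinearMap.ext
    intro a
    rw [LinearMap.comp_apply, LinearMap.convMul_apply, Groth.Agent.H9.Hopf.comul_antipode,
      LinearMap.convMul_apply, ← ih, ofConv_toConv]
    generalize CoalgebraStruct.comul (R := k) a = t
    induction t using TensorProduct.induction_on with
    | zero => simp
    | tmul x y => simp [mul_comm]
    | add x y hx hy => simp only [map_add, hx, hy]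

lemma kills_antipode {n : ℕ} {a : A} (ha : Kills k n a) :
    Kills k n (HopfAlgebra.antipode k a) := by
  intro m hm l hlen hl
  have h1 := LinearMap.congr_fun (prod_comp_antipode l) a
  rw [LinearMap.comp_apply] at h1
  rw [h1]
  apply ha m hm
  · rw [List.length_reverse, List.length_map, hlen]
  · intro θ' hθ'
    rw [List.mem_reverse, List.mem_map] at hθ'
    obtain ⟨θ, hθ, rfl⟩ := hθ'
    show θ.ofConv (HopfAlgebra.antipode k (1 : A)) = 0
    rw [HopfAlgebra.antipode_one]
    exact hl θ hθ

omit [HopfAlgebra k A] in
lemma range_mapIncl_le [Module k A] {X X' Y Y' : Submodule k A} (hX : X ≤ X') (hY : Y ≤ Y') :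
    LinearMap.range (TensorProduct.mapIncl X Y) ≤ LinearMap.range (TensorProduct.mapIncl X' Y') := by
  rintro _ ⟨z, rfl⟩
  refine ⟨TensorProduct.map (Submodule.inclusion hX) (Submodule.inclusion hY) z, ?_⟩
  rw [TensorProduct.mapIncl, TensorProduct.mapIncl, ← LinearMap.comp_apply,
    ← TensorProduct.map_comp]
  rfl

/-- the coconnected part is a sub-Hopf-algebra -/
theorem isHopfSub_cocon : IsHopfSub k A (cocon k A) := by
  constructor
  · rintro a ⟨n, hn⟩
    have ha : a ∈ killsSub k A (n + 1) := hn.mono (Nat.le_succ n)
    have h1 := comul_killsSub_le (k := k) (A := A) n ⟨a, ha, rfl⟩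
    have h2 : (⨆ i ∈ Finset.range (n + 1), LinearMap.range
        (TensorProduct.mapIncl (killsSub k A (i + 1)) (killsSub k A (n - i + 1)))) ≤
        LinearMap.range (TensorProduct.mapIncl (killsSub k A (n + 1)) (killsSub k A (n + 1))) := by
      apply iSup₂_le
      intro i hi
      rw [Finset.mem_range] at hi
      exact range_mapIncl_le (killsSub_mono (by omega)) (killsSub_mono (by omega))
    exact range_map_le (D := killsSub k A (n + 1)) (killsSub_le_cocon (n + 1)) (h2 h1)
  · rintro a ⟨n, hn⟩
    exact ⟨n, kills_antipode hn⟩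

/-- the coconnected part is unipotent -/
theorem isUnipotent_cocon :
    letI := (isHopfSub_cocon (k := k) (A := A)).hopfAlgebra
    HopfRep.IsUnipotent k (cocon k A) := by
  letI := (isHopfSub_cocon (k := k) (A := A)).hopfAlgebra
  apply isUnipotent_of_kills
  intro b
  obtain ⟨n, hn⟩ := b.2
  exact ⟨n, kills_of_injective (isHopfSub_cocon (k := k) (A := A)).incl Subtype.val_injective hn⟩

/-- the image of a unipotent Hopf algebra lies in the coconnected part -/
theorem apply_mem_cocon {U : Type w} [CommRing U] [Bialgebra k U] (hU : HopfRep.IsUnipotent k U)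
    (φ : U →ₐc[k] A) (u : U) : φ u ∈ cocon k A := by
  obtain ⟨n, hn⟩ := exists_kills hU u
  exact ⟨n, kills_map φ hn⟩

end Hopf

end Groth.Agent.H9.CommGrp
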