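import Mathlib
import Groth.Agent.Lib.Helper9.UnipExt.Ext

/-!
# Fixed vectors in extensions; normality in commutative groups (helper9)
-/

set_option autoImplicit false
set_option linter.style.haveILetI false

universe u v w

open TensorProduct WithConv

namespace Groth.Agent.H9.CommGrp

open Groth.Agent.H9 Groth.Agent.H9.UnipFil Groth.Agent.H9.NQ Groth.Agent.H9.FF
  Groth.Agent.H9.FF.Conv Groth.Agent.H9.Comod Groth.Agent.H9.Stab Groth.Agent.H9.UnipExt

section Normal

variable {k : Type*} {A : Type*} {C : Type*} [CommRing k] [CommRing A] [HopfAlgebra k A]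
  [CommRing C] [HopfAlgebra k C] [Coalgebra.IsCocomm k A]

lemma cmul_comm' {R : Type*} [CommRing R] [Algebra k R] (f g : A →ₐ[k] R) :
    cmul f g = cmul g f := by
  unfold cmul
  rw [mul_comm]

/-- every subgroup of a commutative group is normal -/
theorem isNormalHom_of_isCocomm (p : A →ₐc[k] C) : IsNormalHom p := by
  intro a ha
  have h1 : conj' p = (Algebra.TensorProduct.includeLeft).comp (p : A →ₐ[k] C) := by
    unfold conj'
    rw [cmul_comm' (cinv _) _, cinv_cmul_cancel_right]
  rw [h1, AlgHom.comp_apply]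
  show (Algebra.TensorProduct.includeLeft : C →ₐ[k] C ⊗[k] A) (p a) = 0
  rw [ha, map_zero]

end Normal

section Ext

variable {k : Type u} [Field k] {A : Type v} [CommRing A] [HopfAlgebra k A]
  {B : Type v} [CommRing B] [HopfAlgebra k B] {C : Type w} [CommRing C] [HopfAlgebra k C]

/-- in an extension with unipotent quotient `Spec B`, a representation with a nonzero vector fixed
by the kernel `Spec C` has a nonzero fixed vector -/
theorem fixedPts_ne_bot_of_ext (ψ : B →ₐc[k] A) (p : A →ₐc[k] C) (hψ : Function.Injective ψ)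
    (hp : Function.Surjective p)
    (hker : RingHom.ker (p : A →+* C) =
      Ideal.map (ψ : B →+* A) (RingHom.ker (Bialgebra.counitAlgHom k B)))
    (hB : HopfRep.IsUnipotent k B)
    (V : Type v) [AddCommGroup V] [Module k V] [c : HopfRep.Comod k A V] [Module.Finite k V]
    (hfix : @HopfRep.fixedPts k C _ _ _ V _ _ (GLin.comodAlong p c) ≠ ⊥) :
    HopfRep.fixedPts k A V ≠ ⊥ := by
  have hn : IsNormalHom p := isNormalHom_of_ker_eq_map ψ p hker
  let cC : HopfRep.Comod k C V := GLin.comodAlong p c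
  let W : Submodule k V := @HopfRep.fixedPts k C _ _ _ V _ _ cC
  have hW : ∀ v : V, v ∈ W ↔ (p : A →ₐ[k] C).toLinearMap.lTensor V
      (HopfRep.Comod.coact (k := k) (A := A) v) = v ⊗ₜ[k] (1 : C) := fun v => Iff.rfl
  have hWsub : HopfRep.IsSubcomod (k := k) (A := A) W := isSubcomod_fixed' hp hn W hW
  have hcoinv : coinv p = (ψ : B →ₐ[k] A).range := by
    apply coinv_eq_of_ker_eq _ (isHopfSub_range ψ)
    rw [hker, Ideal.map]
    congr 1
    ext a
    constructor
    · rintro ⟨b, hb, rfl⟩
      refine ⟨⟨b, rfl⟩, ?_⟩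
      have hb' : Coalgebra.counit (R := k) b = 0 := hb
      show Coalgebra.counit (R := k) (ψ b) = 0
      rw [CoalgHomClass.counit_comp_apply, hb']
    · rintro ⟨⟨b, rfl⟩, h0⟩
      refine ⟨b, ?_, rfl⟩
      have h0' : Coalgebra.counit (R := k) (ψ b) = 0 := h0
      rw [CoalgHomClass.counit_comp_apply] at h0'
      exact h0'
  let cW : HopfRep.Comod k A W := ComodSub.Comod.restr c W hWsub
  have hcW : ∀ w : W, W.subtype.rTensor A (cW.coact w) = c.coact (w : V) :=
    fun w => ComodSub.restr_coact_coe c W hWsub w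
  have hcoef : ∀ w : W, cW.coact w ∈ LinearMap.range ((ψ : B →ₗ[k] A).lTensor W) := by
    intro w
    let D : Submodule k A := Subalgebra.toSubmodule (ψ : B →ₐ[k] A).range
    have h1 : cW.coact w ∈ LinearMap.range (D.subtype.lTensor W) := by
      rw [mem_range_lTensor_subtype_iff_sliceL]
      intro φ
      obtain ⟨φ', hφ'⟩ := LinearMap.exists_extend φ
      have h2 : sliceL φ (cW.coact w) = mcoef A φ' (w : V) := by
        rw [← hφ', ← sliceL_rTensor, hcW]
        rfl
      rw [h2]
      have h3 : mcoef A φ' (w : V) ∈ coinv p :=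
        (mem_coinv p).mpr (rchar_mcoef' ((hW _).mp w.2) φ')
      rw [hcoinv] at h3
      exact h3
    obtain ⟨y, hy⟩ := h1
    let e : B →ₗ[k] D := (ψ : B →ₐ[k] A).rangeRestrict.toLinearMap
    have he : Function.Surjective e := (ψ : B →ₐ[k] A).rangeRestrict_surjective
    obtain ⟨z, hz⟩ := LinearMap.lTensor_surjective W he y
    refine ⟨z, ?_⟩
    rw [← hy, ← hz, ← LinearMap.comp_apply, ← LinearMap.lTensor_comp]
    rfl
  have hψ' : Function.Injective (ψ.toCoalgHom : B →ₗc[k] A) := hψ
  let cB : HopfRep.Comod k B W := pullComod ψ.toCoalgHom hψ' cW hcoef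
  have hcB : ∀ w : W, (ψ : B →ₗ[k] A).lTensor W (cB.coact w) = cW.coact w :=
    fun w => lTensor_pullComod_coact ψ.toCoalgHom hψ' cW hcoef w
  haveI : Nontrivial W := (Submodule.nontrivial_iff_ne_bot).mpr hfix
  have hfinW : Module.Finite k W := inferInstance
  have hfixB : @HopfRep.fixedPts k B _ _ _ W _ _ cB ≠ ⊥ := @hB W _ _ cB hfinW inferInstance
  obtain ⟨w, hw, hw0⟩ := (Submodule.ne_bot_iff _).mp hfixB
  have hw' : cB.coact w = w ⊗ₜ[k] (1 : B) := hw
  have hwA : c.coact (w : V) = (w : V) ⊗ₜ[k] (1 : A) := by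
    rw [← hcW, ← hcB, hw', LinearMap.lTensor_tmul, LinearMap.rTensor_tmul]
    show (w : V) ⊗ₜ[k] ψ 1 = _
    rw [map_one]
  intro hbot
  have hmem : (w : V) ∈ HopfRep.fixedPts k A V := hwA
  rw [hbot, Submodule.mem_bot] at hmem
  exact hw0 (Subtype.ext hmem)

end Ext

end Groth.Agent.H9.CommGrp
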