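import Mathlib
import Groth.Prelude.Def_SGA3b
import Groth.Agent.Lib.Helper9.UnipExt.Prim
import Groth.Agent.Lib.Helper9.CocommDiag.BaseChange

/-!
# Groups of multiplicative type: no additive characters; maps from unipotent groups (helper9)
-/

set_option autoImplicit false
set_option linter.style.haveILetI false

universe u v w

open TensorProduct WithConv

namespace Groth.Agent.H9.CommGrp

open Groth.Agent.H9 Groth.Agent.H9.UnipFil Groth.Agent.H9.NQ Groth.Agent.H9.FF
  Groth.Agent.H9.UnipExt

section MonAlg

variable {R : Type u} [CommRing R] {M : Type v} [Monoid M]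

/-- the coordinate functional at `m` -/
noncomputable def coordAt (R : Type u) [CommRing R] {M : Type v} [Monoid M] (m : M) :
    MonoidAlgebra R M →ₗ[R] R :=
  Finsupp.lapply m ∘ₗ (MonoidAlgebra.coeffLinearEquiv R).toLinearMap

lemma coordAt_apply (m : M) (x : MonoidAlgebra R M) : coordAt R m x = x.coeff m := rfl

lemma mul'_map_coordAt_comul (m : M) (x : MonoidAlgebra R M) :
    LinearMap.mul' R R (TensorProduct.map (coordAt R m) (coordAt R m)
      (CoalgebraStruct.comul (R := R) x)) = x.coeff m := by
  classical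
  induction x using MonoidAlgebra.induction_linear with
  | zero => simp
  | add x y hx hy =>
    rw [map_add, map_add, map_add, hx, hy]
    rfl
  | single m' r =>
    rw [MonoidAlgebra.comul_single, CommSemiring.comul_apply, TensorProduct.map_tmul,
      TensorProduct.map_tmul, LinearMap.mul'_apply, coordAt_apply, coordAt_apply]
    simp only [MonoidAlgebra.lsingle_apply, MonoidAlgebra.coeff_single]
    by_cases h : m' = m
    · subst h; simp
    · simp [h]

/-- a monoid algebra has no nonzero primitive element -/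
theorem monoidAlgebra_no_primitive (x : MonoidAlgebra R M)
    (hx : CoalgebraStruct.comul (R := R) x =
      x ⊗ₜ[R] (1 : MonoidAlgebra R M) + (1 : MonoidAlgebra R M) ⊗ₜ[R] x) : x = 0 := by
  classical
  have key : ∀ m : M, x.coeff m = x.coeff m * (1 : MonoidAlgebra R M).coeff m +
      (1 : MonoidAlgebra R M).coeff m * x.coeff m := by
    intro m
    have h := mul'_map_coordAt_comul m x
    rw [hx, map_add, map_add, TensorProduct.map_tmul, TensorProduct.map_tmul,
      LinearMap.mul'_apply, LinearMap.mul'_apply, coordAt_apply, coordAt_apply] at h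
    exact h.symm
  apply MonoidAlgebra.coeff_injective
  ext m
  rw [MonoidAlgebra.coeff_zero, Finsupp.zero_apply]
  by_cases hm : m = 1
  · subst hm
    have h := key 1
    rw [MonoidAlgebra.coeff_one_one, mul_one, one_mul] at h
    have : x.coeff 1 + 0 = x.coeff 1 + x.coeff 1 := by rw [add_zero]; exact h
    exact (add_left_cancel this).symm
  · have h := key m
    have h1 : (1 : MonoidAlgebra R M).coeff m = 0 := by
      rw [MonoidAlgebra.one_def, MonoidAlgebra.coeff_single, Finsupp.single_apply,
        if_neg (Ne.symm hm)]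
    rw [h1, mul_zero, zero_mul, add_zero] at h
    exact h

end MonAlg

section BC

variable {k : Type u} [CommRing k] (K : Type w) [CommRing K] [Algebra k K]
  {A : Type v} [CommRing A] [Bialgebra k A]

/-- comultiplication of the base change (over a ring) -/
lemma comul_baseChange' (x : K ⊗[k] A) :
    CoalgebraStruct.comul (R := K) x =
      TensorProduct.AlgebraTensorModule.distribBaseChange k K A A
        ((CoalgebraStruct.comul (R := k) (A := A)).lTensor K x) := by
  induction x using TensorProduct.induction_on with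
  | zero => simp
  | tmul c a =>
    rw [TensorProduct.comul_tmul, LinearMap.lTensor_tmul,
      ← (Coalgebra.Repr.arbitrary k a).eq, CommSemiring.comul_apply,
      TensorProduct.tmul_sum, TensorProduct.tmul_sum, map_sum, map_sum]
    refine Finset.sum_congr rfl fun l _ => ?_
    rw [TensorProduct.AlgebraTensorModule.tensorTensorTensorComm_tmul,
      TensorProduct.AlgebraTensorModule.distribBaseChange_tmul]
    show ((1 : K) ⊗ₜ[k] _) ⊗ₜ[K] (c ⊗ₜ[k] _) = (c ⊗ₜ[k] _) ⊗ₜ[K] ((1 : K) ⊗ₜ[k] _)
    have h1 : ∀ a' : A, c ⊗ₜ[k] a' = c • ((1 : K) ⊗ₜ[k] a') := fun a' => by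
      rw [TensorProduct.smul_tmul', smul_eq_mul, mul_one]
    rw [h1, h1, TensorProduct.smul_tmul]
  | add x y hx hy => simp only [map_add, hx, hy]

/-- primitive elements of `A` give primitive elements of `K ⊗ A` (over a ring) -/
lemma primitive_one_tmul' (f : A)
    (hf : CoalgebraStruct.comul (R := k) f = f ⊗ₜ[k] (1 : A) + (1 : A) ⊗ₜ[k] f) :
    CoalgebraStruct.comul (R := K) ((1 : K) ⊗ₜ[k] f) =
      ((1 : K) ⊗ₜ[k] f) ⊗ₜ[K] (1 : K ⊗[k] A) + (1 : K ⊗[k] A) ⊗ₜ[K] ((1 : K) ⊗ₜ[k] f) := by
  rw [comul_baseChange', LinearMap.lTensor_tmul, hf, TensorProduct.tmul_add, map_add,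
    TensorProduct.AlgebraTensorModule.distribBaseChange_tmul,
    TensorProduct.AlgebraTensorModule.distribBaseChange_tmul, Algebra.TensorProduct.one_def]

end BC

section NoPrimMT

variable {k : Type u} [Field k] {H : Type u} [CommRing H] [HopfAlgebra k H]

/-- a Hopf algebra of multiplicative type has no nonzero primitive element -/
theorem no_primitive_of_isMultTypeConst (hH : SGA3b.IsMultTypeConst k H) (x : H)
    (hx : CoalgebraStruct.comul (R := k) x = x ⊗ₜ[k] (1 : H) + (1 : H) ⊗ₜ[k] x) : x = 0 := by
  obtain ⟨R', _, _, hff, M, _, ⟨e⟩⟩ := hH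
  have h1 := primitive_one_tmul' R' x hx
  have h2 : CoalgebraStruct.comul (R := R') (e ((1 : R') ⊗ₜ[k] x)) =
      e ((1 : R') ⊗ₜ[k] x) ⊗ₜ[R'] (1 : MonoidAlgebra R' M) +
        (1 : MonoidAlgebra R' M) ⊗ₜ[R'] e ((1 : R') ⊗ₜ[k] x) := by
    have h3 := CoalgHomClass.map_comp_comul_apply e ((1 : R') ⊗ₜ[k] x)
    rw [← h3, h1, map_add, TensorProduct.map_tmul, TensorProduct.map_tmul]
    show e _ ⊗ₜ[R'] e 1 + e 1 ⊗ₜ[R'] e _ = _
    rw [map_one]
  have h4 := monoidAlgebra_no_primitive _ h2
  have h5 : (1 : R') ⊗ₜ[k] x = 0 :=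
    EquivLike.injective e (h4.trans (map_zero e).symm)
  have hinj : Function.Injective (Algebra.TensorProduct.includeRight : H →ₐ[k] R' ⊗[k] H) :=
    Algebra.TensorProduct.includeRight_injective (FaithfulSMul.algebraMap_injective k R')
  apply hinj
  rw [map_zero]
  exact h5

end NoPrimMT

section Triv

variable {k : Type u} [Field k] {U : Type v} [CommRing U] [HopfAlgebra k U]
  {H : Type w} [CommRing H] [HopfAlgebra k H]

/-- a homomorphism from a group without additive characters to a unipotent group is trivial -/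
theorem trivial_of_no_primitive (hU : HopfRep.IsUnipotent k U)
    (hH : ∀ x : H, CoalgebraStruct.comul (R := k) x = x ⊗ₜ[k] (1 : H) + (1 : H) ⊗ₜ[k] x → x = 0)
    (φ : U →ₐc[k] H) (u : U) : φ u = CoalgebraStruct.counit (R := k) u • (1 : H) := by
  haveI hK : (RingHom.ker (φ : U →+* H)).IsHopfIdeal k := isHopfIdeal_ker φ
  let K := RingHom.ker (φ : U →+* H)
  have hD : HopfRep.IsUnipotent k (U ⧸ K) :=
    isUnipotent_of_surjective (Bialgebra.Quotient.mkBialgHom K) Ideal.Quotient.mk_surjective hU
  let g : U ⧸ K →ₐ[k] H := Ideal.Quotient.liftₐ K (φ : U →ₐ[k] H) (fun a ha => ha)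
  let ι : U ⧸ K →ₐc[k] H :=
    bialgHomOfSurjective (Bialgebra.Quotient.mkBialgHom K) Ideal.Quotient.mk_surjective φ g
      (by ext a; rfl)
  have hι : Function.Injective ι := by
    rw [injective_iff_map_eq_zero]
    intro d hd
    obtain ⟨a, rfl⟩ := Ideal.Quotient.mk_surjective d
    have : φ a = 0 := hd
    exact Ideal.Quotient.eq_zero_iff_mem.mpr this
  have hall : ∀ d : U ⧸ K, d ∈ Submodule.span k {(1 : U ⧸ K)} := by
    intro d
    by_contra hd
    obtain ⟨y, hy0, hy⟩ := exists_primitive_of_isUnipotent hD hd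
    apply hy0
    apply hι
    rw [map_zero]
    apply hH
    have h3 := CoalgHomClass.map_comp_comul_apply ι y
    rw [← h3, hy, map_add, TensorProduct.map_tmul, TensorProduct.map_tmul]
    show ι _ ⊗ₜ[k] ι 1 + ι 1 ⊗ₜ[k] ι _ = _
    rw [map_one]
  obtain ⟨c, hc⟩ := Submodule.mem_span_singleton.mp (hall (Ideal.Quotient.mk K u))
  have h1 : φ u = ι (Ideal.Quotient.mk K u) := rfl
  have h2 : CoalgebraStruct.counit (R := k) (Ideal.Quotient.mk K u) =
      CoalgebraStruct.counit (R := k) u := rfl
  have h3 := congrArg (CoalgebraStruct.counit (R := k) (A := U ⧸ K)) hc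
  rw [h2, map_smul, Bialgebra.counit_one, smul_eq_mul, mul_one] at h3
  rw [h1, ← hc, map_smul, map_one, h3]

end Triv

section Diag

variable {K : Type u} [Field K] {H : Type u} [CommRing H] [HopfAlgebra K H]

/-- a Hopf algebra spanned by its group-like elements is a group algebra -/
theorem isDiag_of_isDiagonalizable (h : HopfRep.IsDiagonalizable K H) : SGA3b.IsDiag K H := by
  classical
  have hli := linearIndep_groupLikeVal (R := K) (A := H)
  let f : MonoidAlgebra K (GroupLike K H) →ₐc[K] H := MonoidAlgebra.liftGroupLikeBialgHom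
  have hf : ∀ γ : GroupLike K H, f (MonoidAlgebra.single γ 1) = γ.val := by
    intro γ
    rw [MonoidAlgebra.liftGroupLikeBialgHom_apply, MonoidAlgebra.lift_single, one_smul]
    rfl
  have hsurj : Function.Surjective f := by
    have h1 : (⊤ : Submodule K H) ≤
        LinearMap.range (f : MonoidAlgebra K (GroupLike K H) →ₗ[K] H) := by
      have h2 : Submodule.span K {a : H | IsGroupLikeElem K a} = ⊤ := h
      rw [← h2]
      apply Submodule.span_le.mpr
      intro a ha
      exact ⟨MonoidAlgebra.single ⟨a, ha⟩ 1, hf ⟨a, ha⟩⟩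
    intro a
    obtain ⟨x, hx⟩ := h1 (Submodule.mem_top (x := a))
    exact ⟨x, hx⟩
  have hinj : Function.Injective f := by
    rw [injective_iff_map_eq_zero]
    have h1 : ∀ x : MonoidAlgebra K (GroupLike K H),
        f x = Finsupp.linearCombination K (GroupLike.val (R := K) (A := H)) x.coeff := by
      intro x
      induction x using MonoidAlgebra.induction_linear with
      | zero => simp
      | add x y hx hy =>
        rw [map_add, hx, hy, MonoidAlgebra.coeff_add, map_add]
      | single γ r =>
        rw [MonoidAlgebra.coeff_single, Finsupp.linearCombination_single,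
          MonoidAlgebra.liftGroupLikeBialgHom_apply, MonoidAlgebra.lift_single]
        rfl
    intro x hx
    rw [h1] at hx
    have h2 := (linearIndependent_iff.mp hli) x.coeff hx
    exact MonoidAlgebra.coeff_injective (by rw [h2, MonoidAlgebra.coeff_zero])
  exact ⟨GroupLike K H, inferInstance, ⟨(BialgEquiv.ofBijective f ⟨hinj, hsurj⟩).symm⟩⟩

end Diag

section CocommQuot

variable {k : Type u} [CommRing k] {A : Type v} [CommRing A] [HopfAlgebra k A]
  [Coalgebra.IsCocomm k A] (I : Ideal A) [I.IsHopfIdeal k]

/-- quotients of cocommutative Hopf algebras are cocommutative -/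
instance isCocomm_quotient : Coalgebra.IsCocomm k (A ⧸ I) where
  comm_comp_comul := by
    apply LinearMap.ext
    intro x
    obtain ⟨a, rfl⟩ := Ideal.Quotient.mk_surjective x
    let π : A →ₐc[k] A ⧸ I := Bialgebra.Quotient.mkBialgHom I
    have h1 : CoalgebraStruct.comul (R := k) (π a) =
        TensorProduct.map (π : A →ₗ[k] A ⧸ I) (π : A →ₗ[k] A ⧸ I)
          (CoalgebraStruct.comul (R := k) a) :=
      (CoalgHomClass.map_comp_comul_apply π a).symm
    show (TensorProduct.comm k (A ⧸ I) (A ⧸ I)) (CoalgebraStruct.comul (R := k) (π a)) =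
      CoalgebraStruct.comul (R := k) (π a)
    rw [h1]
    have h2 := Coalgebra.comm_comul k a
    conv_rhs => rw [← h2]
    generalize CoalgebraStruct.comul (R := k) a = t
    induction t using TensorProduct.induction_on with
    | zero => simp
    | tmul y z => rfl
    | add y z hy hz => simp only [map_add, hy, hz]

end CocommQuot

end Groth.Agent.H9.CommGrp
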