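import Mathlib
import Groth.Agent.Lib.Helper9.CommGrp.Cocon
import Groth.Agent.Lib.Helper9.CommGrp.ExtX
import Groth.Agent.Lib.Helper9.NQ.Main
import Groth.Agent.Lib.Helper9.NQ.Inverse

/-!
# The quotient of a commutative group by its largest unipotent quotient's kernel has no
additive characters (helper9)

For a commutative and cocommutative Hopf algebra `A` over a field, with `B = cocon k A` the
coconnected part and `J = B⁺A`, the Hopf algebra `A ⧸ J` has no nonzero primitive element.
-/

set_option autoImplicit false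
set_option linter.style.haveILetI false

universe u

open TensorProduct WithConv

namespace Groth.Agent.H9.CommGrp

open Groth.Agent.H9 Groth.Agent.H9.UnipFil Groth.Agent.H9.NQ Groth.Agent.H9.FF
  Groth.Agent.H9.FF.Conv Groth.Agent.H9.Comod Groth.Agent.H9.UnipExt

section Defs

variable (k : Type u) [Field k] (A : Type u) [CommRing A] [HopfAlgebra k A]

/-- the ideal generated by the augmentation ideal of a subalgebra -/
def subAugIdeal (B : Subalgebra k A) : Ideal A :=
  Ideal.span {a : A | a ∈ B ∧ Coalgebra.counit (R := k) a = 0}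

variable {k A}

theorem isHopfIdeal_subAugIdeal (B : Subalgebra k A) (hB : IsHopfSub k A B) :
    (subAugIdeal k A B).IsHopfIdeal k := by
  letI := hB.hopfAlgebra
  have h := isHopfIdeal_augIdeal (k := k) (A := A) hB.incl (fun _ => rfl)
  rw [augIdeal_eq_span _ hB] at h
  exact h

lemma subAugIdeal_eq_map (B : Subalgebra k A) (hB : IsHopfSub k A B) :
    letI := hB.hopfAlgebra
    subAugIdeal k A B = Ideal.map ((hB.incl : ↥B →ₐc[k] A) : ↥B →+* A)
      (RingHom.ker (Bialgebra.counitAlgHom k ↥B)) := by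
  letI := hB.hopfAlgebra
  have := augIdeal_eq_span (k := k) (A := A) B hB
  rw [subAugIdeal, ← this]
  rfl

variable (k A) in
/-- the ideal of the largest subgroup of multiplicative type -/
def coconIdeal : Ideal A := subAugIdeal k A (cocon k A)

instance : (coconIdeal k A).IsHopfIdeal k := isHopfIdeal_subAugIdeal _ isHopfSub_cocon

end Defs

section Abbrev

variable (k : Type u) [Field k] (A : Type u) [CommRing A] [HopfAlgebra k A]

/-- the quotient by `cocon⁺A` -/
abbrev Hq := A ⧸ coconIdeal k A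

variable {k A}

/-- the subalgebra generated by an element of the quotient -/
abbrev Dx (x : Hq k A) : Subalgebra k (Hq k A) := Algebra.adjoin k ({x} : Set (Hq k A))

/-- the further quotient -/
abbrev Nq (x : Hq k A) := Hq k A ⧸ subAugIdeal k (Hq k A) (Dx x)

end Abbrev

section Main

variable {k : Type u} [Field k] {A : Type u} [CommRing A] [HopfAlgebra k A]
  [Coalgebra.IsCocomm k A]

omit [Coalgebra.IsCocomm k A] in
/-- a unipotent sub-Hopf-algebra lies in the coconnected part -/
lemma le_cocon_of_isUnipotent (B' : Subalgebra k A) (hB' : IsHopfSub k A B')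
    (hU : letI := hB'.hopfAlgebra; HopfRep.IsUnipotent k ↥B') : B' ≤ cocon k A := by
  letI := hB'.hopfAlgebra
  intro b hb
  exact apply_mem_cocon hU hB'.incl ⟨b, hb⟩

/-- **no additive characters**: `A ⧸ cocon⁺A` has no nonzero primitive element -/
theorem eq_zero_of_primitive_quot (x : A ⧸ coconIdeal k A)
    (hx : CoalgebraStruct.comul (R := k) x =
      x ⊗ₜ[k] (1 : A ⧸ coconIdeal k A) + (1 : A ⧸ coconIdeal k A) ⊗ₜ[k] x) : x = 0 := by
  classical
  by_contra hx0
  -- notation
  have hB := isHopfSub_cocon (k := k) (A := A)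
  letI iB : HopfAlgebra k ↥(cocon k A) := hB.hopfAlgebra
  let p : A →ₐc[k] A ⧸ coconIdeal k A := Bialgebra.Quotient.mkBialgHom (coconIdeal k A)
  have hp : Function.Surjective p := Ideal.Quotient.mk_surjective
  have hkerp : RingHom.ker (p : A →+* A ⧸ coconIdeal k A) = coconIdeal k A := by
    ext a
    rw [RingHom.mem_ker]
    exact Ideal.Quotient.eq_zero_iff_mem
  -- the unipotent sub-Hopf-algebra generated by `x`
  have hD := isHopfSub_adjoin_primitive x hx
  letI iD : HopfAlgebra k ↥(Dx x) := hD.hopfAlgebra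
  have hDu := isUnipotent_adjoin_primitive x hx
  haveI hJD : (subAugIdeal k (A ⧸ coconIdeal k A)
      (Dx x)).IsHopfIdeal k :=
    isHopfIdeal_subAugIdeal _ hD
  let q : (A ⧸ coconIdeal k A) →ₐc[k] Nq x :=
    Bialgebra.Quotient.mkBialgHom _
  have hq : Function.Surjective q := Ideal.Quotient.mk_surjective
  have hkerq : RingHom.ker (q : Hq k A →+* Nq x) =
      subAugIdeal k (A ⧸ coconIdeal k A) (Dx x) := by
    ext a
    rw [RingHom.mem_ker]
    exact Ideal.Quotient.eq_zero_iff_mem
  have hcoinvq : coinv q = Dx x :=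
    coinv_eq_of_ker_eq _ hD q hkerq
  let p' := q.comp p
  have hp' : Function.Surjective p' := hq.comp hp
  have hn' : IsNormalHom p' := isNormalHom_of_isCocomm p'
  have hB' : IsHopfSub k A (coinv p') := isHopfSub_coinv hp' hn'
  have hker' := ker_eq_span_coinv hp' hn'
  letI iB' : HopfAlgebra k ↥(coinv p') := hB'.hopfAlgebra
  -- `p` maps `coinv p'` into `k[x]`
  have hpB' : ∀ b ∈ coinv p', p b ∈ Dx x := by
    intro b hb
    rw [← hcoinvq, mem_coinv]
    unfold RChar
    have hb' : rho p' b = b ⊗ₜ[k] 1 := hb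
    rw [rho_apply] at hb' ⊢
    have h1 : CoalgebraStruct.comul (R := k) (p b) =
        TensorProduct.map (p : A →ₗ[k] Hq k A) (p : A →ₗ[k] Hq k A) (CoalgebraStruct.comul (R := k) b) :=
      (CoalgHomClass.map_comp_comul_apply p b).symm
    have h2 : (q : Hq k A →ₐ[k] Nq x).toLinearMap.lTensor _
        (TensorProduct.map (p : A →ₗ[k] Hq k A) (p : A →ₗ[k] Hq k A) (CoalgebraStruct.comul (R := k) b)) =
        (p : A →ₗ[k] Hq k A).rTensor _ ((p' : A →ₐ[k] Nq x).toLinearMap.lTensor A
          (CoalgebraStruct.comul (R := k) b)) := by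
      generalize CoalgebraStruct.comul (R := k) b = t
      induction t using TensorProduct.induction_on with
      | zero => simp
      | tmul y z => rfl
      | add y z hy hz => simp only [map_add, hy, hz]
    have h3 : CoalgebraStruct.comul (R := k) (p b) = Coalgebra.comul (R := k) (p b) := rfl
    rw [← h3, h1, h2, hb', LinearMap.rTensor_tmul]
    rfl
  -- `coinv p'` is unipotent
  have hU' : HopfRep.IsUnipotent k ↥(coinv p') := by
    intro V _ _ c' hfin hnt
    let ι : ↥(coinv p') →ₐc[k] A := hB'.incl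
    let cA : HopfRep.Comod k A V := GLin.comodAlong ι c'
    let cH : HopfRep.Comod k (A ⧸ coconIdeal k A) V := GLin.comodAlong p cA
    -- the linear map `coinv p' → k[x]`
    let g : ↥(coinv p') →ₗ[k] ↥(Dx x) :=
      LinearMap.codRestrict
        (Subalgebra.toSubmodule (Dx x))
        ((p : A →ₗ[k] Hq k A) ∘ₗ (ι : ↥(coinv p') →ₗ[k] A)) (fun b => hpB' b b.2)
    let ιD : ↥(Dx x) →ₐc[k] A ⧸ coconIdeal k A :=
      hD.incl
    have hg : (ιD : ↥(Dx x) →ₗ[k] A ⧸ coconIdeal k A) ∘ₗ g =
        (p : A →ₗ[k] Hq k A) ∘ₗ (ι : ↥(coinv p') →ₗ[k] A) := by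
      apply LinearMap.ext
      intro b
      rfl
    have hcH : ∀ v : V, cH.coact v =
        ((p : A →ₗ[k] Hq k A) ∘ₗ (ι : ↥(coinv p') →ₗ[k] A)).lTensor V (c'.coact v) := by
      intro v
      show TensorProduct.map LinearMap.id (p : A →ₗ[k] Hq k A)
        (TensorProduct.map LinearMap.id (ι : ↥(coinv p') →ₗ[k] A) (c'.coact v)) = _
      rw [← LinearMap.comp_apply, ← TensorProduct.map_comp, LinearMap.id_comp]
      rfl
    have hcoef : ∀ v : V, cH.coact v ∈ LinearMap.range
        ((ιD.toCoalgHom : ↥(Dx x) →ₗ[k] A ⧸ coconIdeal k A).lTensor V) := by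
      intro v
      refine ⟨g.lTensor V (c'.coact v), ?_⟩
      rw [hcH, ← hg, LinearMap.lTensor_comp, LinearMap.comp_apply]
      rfl
    have hιD : Function.Injective (ιD.toCoalgHom : ↥(Dx x) →ₗc[k] A ⧸ coconIdeal k A) :=
      Subtype.val_injective
    let cD : HopfRep.Comod k ↥(Dx x) V :=
      pullComod ιD.toCoalgHom hιD cH hcoef
    have hcD : ∀ v : V, (ιD.toCoalgHom : ↥(Dx x) →ₗ[k] A ⧸ coconIdeal k A).lTensor V (cD.coact v) =
        cH.coact v := fun v => lTensor_pullComod_coact ιD.toCoalgHom hιD cH hcoef v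
    have hfixD : @HopfRep.fixedPts k _ _ _ _ V _ _ cD ≠ ⊥ := @hDu V _ _ cD hfin hnt
    obtain ⟨v, hv, hv0⟩ := (Submodule.ne_bot_iff _).mp hfixD
    have hv' : cD.coact v = v ⊗ₜ[k] 1 := hv
    have hfixH : @HopfRep.fixedPts k (A ⧸ coconIdeal k A) _ _ _ V _ _ cH ≠ ⊥ := by
      intro hbot
      have hmem : v ∈ @HopfRep.fixedPts k (A ⧸ coconIdeal k A) _ _ _ V _ _ cH := by
        show cH.coact v = v ⊗ₜ[k] 1
        rw [← hcD, hv', LinearMap.lTensor_tmul]
        show v ⊗ₜ[k] ιD 1 = _
        rw [map_one]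
      rw [hbot, Submodule.mem_bot] at hmem
      exact hv0 hmem
    have hkerp' : RingHom.ker (p : A →+* A ⧸ coconIdeal k A) =
        Ideal.map ((hB.incl : ↥(cocon k A) →ₐc[k] A) : ↥(cocon k A) →+* A)
          (RingHom.ker (Bialgebra.counitAlgHom k ↥(cocon k A))) := by
      rw [hkerp]
      exact subAugIdeal_eq_map _ hB
    have hfixA := @fixedPts_ne_bot_of_ext k _ A _ _ ↥(cocon k A) _ _ (A ⧸ coconIdeal k A) _ _
      hB.incl p Subtype.val_injective hp hkerp' isUnipotent_cocon V _ _ cA hfin hfixH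
    obtain ⟨w, hw, hw0⟩ := (Submodule.ne_bot_iff _).mp hfixA
    have hw' : cA.coact w = w ⊗ₜ[k] (1 : A) := hw
    intro hbot
    have hmem : w ∈ HopfRep.fixedPts k ↥(coinv p') V := by
      show c'.coact w = w ⊗ₜ[k] 1
      have hinj : Function.Injective ((ι : ↥(coinv p') →ₗ[k] A).lTensor V) :=
        Module.Flat.lTensor_preserves_injective_linearMap _ Subtype.val_injective
      apply hinj
      rw [LinearMap.lTensor_tmul]
      show _ = w ⊗ₜ[k] ι 1
      rw [map_one]
      exact hw'
    rw [hbot, Submodule.mem_bot] at hmem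
    exact hw0 hmem
  have hle : coinv p' ≤ cocon k A := le_cocon_of_isUnipotent _ hB' hU'
  -- conclusion
  obtain ⟨a, ha⟩ := hp x
  have hxD : x ∈ Dx x := Algebra.subset_adjoin rfl
  have hqx : q x = 0 := by
    have : x ∈ RingHom.ker (q : Hq k A →+* Nq x) := by
      rw [hkerq]
      exact Ideal.subset_span ⟨hxD, counit_primitive x hx⟩
    exact this
  have ha' : a ∈ RingHom.ker (p' : A →+* Nq x) := by
    rw [RingHom.mem_ker]
    show q (p a) = 0
    rw [ha, hqx]
  rw [hker'] at ha'
  have hle' : Ideal.span {a : A | a ∈ coinv p' ∧ Coalgebra.counit (R := k) a = 0} ≤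
      coconIdeal k A := by
    apply Ideal.span_mono
    rintro b ⟨hb, hb0⟩
    exact ⟨hle hb, hb0⟩
  have h0 : p a = 0 := by
    have : a ∈ RingHom.ker (p : A →+* A ⧸ coconIdeal k A) := by
      rw [hkerp]; exact hle' ha'
    exact this
  rw [ha] at h0
  exact hx0 h0

end Main

end Groth.Agent.H9.CommGrp
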